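/-
Vocabulary for the residual subgroups of the special linear and unitary groups in dimension three: the conditions
used on the perfect socle preimage, root groups of transvections, and the outcomes of the case division.
-/
import Mathlib
import Cfsg.Prelude.Def_GeometricClasses
import Cfsg.Prelude.Def_CaseTheorems
import Cfsg.Agent.Lib.MaxCl.Transvection

set_option autoImplicit false

namespace Cfsg.Agent.MaxCl.SLThree.Residual

open scoped MatrixGroups Matrix

variable {F : Type*} [Field F]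

/-- The quotient of `P` by its scalars. -/
abbrev Img (P : Subgroup (GL (Fin 3) F)) : Type _ := P ⧸ (Cfsg.Geo.scalars (Fin 3) F).subgroupOf P

/-- What is used of the perfect socle preimage of a residual subgroup. -/
structure Core (P : Subgroup (GL (Fin 3) F)) : Prop where
  perfect : ⁅P, P⁆ = P
  simple : IsSimpleGroup (Img P)
  nonabelian : ¬ IsMulCommutative (Img P)
  absIrr : Cfsg.Geo.ActsAbsolutelyIrreducibly (Cfsg.Geo.matrixSet P)
  noSubfield : ∀ F₀ : Subfield F, F₀ ≠ ⊤ → ¬ Cfsg.Geo.RealisableOver F₀ (Cfsg.Geo.matrixSet P)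
  noQuad : ¬ ∃ Q : (Fin 3 → F) → F,
    Cfsg.Geo.IsNondegenerateQuadraticForm Q ∧ Cfsg.Geo.FixesQuadForm (Cfsg.Geo.matrixSet P) Q

theorem Core.of_residualCore {H P : Subgroup (GL (Fin 3) F)} (h : Cfsg.Geo.IsResidualCore H P)
    (hQ : ¬ ∃ Q : (Fin 3 → F) → F,
      Cfsg.Geo.IsNondegenerateQuadraticForm Q ∧ Cfsg.Geo.FixesQuadForm (Cfsg.Geo.matrixSet P) Q) : Core P :=
  ⟨h.perfect, h.simple, h.nonabelian, h.absIrred, h.no_subfield, hQ⟩

/-- `P` contains a transvection. -/
def HasElation (P : Subgroup (GL (Fin 3) F)) : Prop :=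
  ∃ (v : Fin 3 → F) (φ : (Fin 3 → F) →ₗ[F] F), v ≠ 0 ∧ φ ≠ 0 ∧ φ v = 0 ∧ tv φ v ∈ P

/-- The root group of the flag `(v, φ)`: the parameters of the transvections of `P` with that centre and axis. -/
def roots (P : Subgroup (GL (Fin 3) F)) {v : Fin 3 → F} {φ : (Fin 3 → F) →ₗ[F] F} (h : φ v = 0) : AddSubgroup F where
  carrier := {c | tv φ (c • v) ∈ P}
  zero_mem' := by
    have : tv φ ((0 : F) • v) = 1 := gl_ext fun x => by rw [act_tv (by simp)]; simp [act_one]
    simp only [Set.mem_ofPred_eq, this, P.one_mem]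
  add_mem' {a b} ha hb := by
    simp only [Set.mem_ofPred_eq] at *
    have e : tv φ ((a + b) • v) = tv φ (a • v) * tv φ (b • v) := gl_ext fun x => by
      rw [act_mul, act_tv (by simp [h]), act_tv (by simp [h]), act_tv (by simp [h])]
      simp [h, add_smul]
      abel
    rw [e]; exact P.mul_mem ha hb
  neg_mem' {a} ha := by
    simp only [Set.mem_ofPred_eq] at *
    have e : tv φ ((-a) • v) = (tv φ (a • v))⁻¹ := eq_inv_of_mul_eq_one_left (gl_ext fun x => by
      rw [act_mul, act_tv (by simp [h]), act_tv (by simp [h])]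
      simp [h, act_one])
    rw [e]; exact P.inv_mem ha

theorem mem_roots {P : Subgroup (GL (Fin 3) F)} {v : Fin 3 → F} {φ : (Fin 3 → F) →ₗ[F] F} (h : φ v = 0) {c : F} :
    c ∈ roots P h ↔ tv φ (c • v) ∈ P := Iff.rfl

/-- The Sylow 2-subgroups are dihedral of order at least four. -/
def DihedralSylow (G : Type*) [Group G] : Prop :=
  ∀ S : Sylow 2 G, ∃ n : ℕ, 2 ≤ n ∧ Nonempty ((S : Subgroup G) ≃* DihedralGroup n)

/-- `P` fixes a unitary form. -/
def FixesUnitary (P : Subgroup (GL (Fin 3) F)) : Prop :=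
  ∃ (σ : F ≃+* F) (f : (Fin 3 → F) → (Fin 3 → F) → F),
    Cfsg.Geo.IsUnitaryForm σ f ∧ Cfsg.Geo.FixesForm (Cfsg.Geo.matrixSet P) f

/-- `P` fixes a unitary form and contains all its transvections. -/
def FullUnitary (P : Subgroup (GL (Fin 3) F)) : Prop :=
  ∃ (σ : F ≃+* F) (f : (Fin 3 → F) → (Fin 3 → F) → F),
    Cfsg.Geo.IsUnitaryForm σ f ∧ Cfsg.Geo.FixesForm (Cfsg.Geo.matrixSet P) f ∧
      ∀ (v : Fin 3 → F) (φ : (Fin 3 → F) →ₗ[F] F), φ v = 0 →
        (∀ x y, f (act (tv φ v) x) (act (tv φ v) y) = f x y) → tv φ v ∈ P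

/-- The simple quotient is the group of order 168. -/
def TypeSeven (P : Subgroup (GL (Fin 3) F)) : Prop :=
  Nonempty (Img P ≃* Matrix.ProjectiveSpecialLinearGroup (Fin 3) (ZMod 2))

/-- The simple quotient is the alternating group of degree six. -/
def TypeSix (P : Subgroup (GL (Fin 3) F)) : Prop := Nonempty (Img P ≃* alternatingGroup (Fin 6))

/-- The simple quotient is the alternating group of degree seven. -/
def TypeAlt (P : Subgroup (GL (Fin 3) F)) : Prop := Nonempty (Img P ≃* alternatingGroup (Fin 7))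

/-- The sporadic outcomes which fix no unitary form. -/
def LinearOutcome [Fintype F] (P : Subgroup (GL (Fin 3) F)) (p : ℕ) : Prop :=
  ¬ FixesUnitary P ∧
    ((TypeSeven P ∧ Fintype.card F = p ∧ p ≠ 2 ∧ (p % 7 = 1 ∨ p % 7 = 2 ∨ p % 7 = 4)) ∨
      (TypeSix P ∧ ((Fintype.card F = p ∧ (p % 15 = 1 ∨ p % 15 = 4)) ∨
        (Fintype.card F = p ^ 2 ∧ p ≠ 3 ∧ (p % 5 = 2 ∨ p % 5 = 3)))))

/-- The sporadic outcomes which fix a unitary form. -/
def UnitaryOutcome [Fintype F] (P : Subgroup (GL (Fin 3) F)) (p : ℕ) : Prop :=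
  FixesUnitary P ∧ Fintype.card F = p ^ 2 ∧
    ((TypeSeven P ∧ (p % 7 = 3 ∨ p % 7 = 5 ∨ p % 7 = 6)) ∨
      (TypeSix P ∧ (p % 15 = 11 ∨ p % 15 = 14 ∨ p = 5)) ∨
      (TypeAlt P ∧ p = 5))

end Cfsg.Agent.MaxCl.SLThree.Residual
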